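import Mathlib

/-!
# Skeleta of simplicial sets and the skeleton adjunction
-/

open CategoryTheory Simplicial Opposite
universe u

namespace SkelAdj

lemma range_le {n : ℕ} {V : SSet.Truncated.{u} n} {U : SSet.{u}} (g : (SSet.Truncated.sk n).obj V ⟶ U) :
    SSet.Subcomplex.range g ≤ U.skeleton (n + 1) := by
  let A := U.skeleton (n + 1)
  haveI : IsIso ((SSet.truncation n).map A.ι) := by
    haveI : ∀ d, IsIso (((SSet.truncation n).map A.ι).app d) := fun d => by
      rw [isIso_iff_bijective]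
      refine ⟨fun a b h => Subtype.ext h, fun x => ⟨⟨x, ?_⟩, rfl⟩⟩
      exact SSet.mem_skeleton U x (Nat.lt_succ_of_le d.unop.property)
    exact NatIso.isIso_of_isIso_app _
  let φ := ((SSet.skAdj n).homEquiv _ _).symm
    ((SSet.skAdj n).homEquiv _ _ g ≫ inv ((SSet.truncation n).map A.ι))
  have hφ : φ ≫ A.ι = g := by
    apply ((SSet.skAdj n).homEquiv _ _).injective
    rw [Adjunction.homEquiv_naturality_right]
    simp [φ]
  rintro k x ⟨y, rfl⟩
  rw [← hφ]
  exact (φ.app k y).2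

theorem hasDimensionLT (n : ℕ) (V : SSet.Truncated.{u} n) :
    ((SSet.Truncated.sk n).obj V).HasDimensionLT (n + 1) := by
  refine ⟨fun k hk => Set.eq_univ_iff_forall.2 fun x => ?_⟩
  by_contra hx
  have := range_le (𝟙 ((SSet.Truncated.sk n).obj V)) _ (⟨x, rfl⟩ : x ∈ (SSet.Subcomplex.range (𝟙 _)).obj (op ⦋k⦌))
  have := ((SSet.Truncated.sk n).obj V).mem_skeleton_obj_iff_of_nonDegenerate ⟨x, hx⟩ (n + 1) |>.1 this
  omega

lemma bijective_counit (U : SSet.{u}) (n d : ℕ) (hd : d ≤ n) :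
    Function.Bijective ((((SSet.skAdj n).counit.app U).app (op ⦋d⦌)) : _ → _) := by
  haveI : IsIso ((SSet.truncation n).map ((SSet.skAdj n).counit.app U)) := by
    have h := (SSet.skAdj n).right_triangle_components U
    have : (SSet.truncation n).map ((SSet.skAdj n).counit.app U) =
        inv ((SSet.skAdj n).unit.app ((SSet.truncation n).obj U)) := by
      apply IsIso.eq_inv_of_hom_inv_id
      exact h
    rw [this]; infer_instance
  exact (isIso_iff_bijective _).1 (inferInstanceAs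
    (IsIso (((SSet.truncation n).map ((SSet.skAdj n).counit.app U)).app (op ⟨⦋d⦌, hd⟩))))

theorem range_eq (U : SSet.{u}) (n : ℕ) :
    SSet.Subcomplex.range ((SSet.skAdj n).counit.app U) = U.skeleton (n + 1) := by
  refine le_antisymm (range_le _) ?_
  refine iSup_le fun i => iSup_le fun x => ?_
  refine (SSet.Subcomplex.ofSimplex_le_iff _ _).2 ?_
  obtain ⟨y, hy⟩ := (bijective_counit U n i (Nat.lt_succ_iff.1 i.2)).2 x.1
  exact ⟨y, hy⟩

theorem mono_counit (U : SSet.{u}) (n : ℕ) : Mono ((SSet.skAdj n).counit.app U) := by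
  set Y := (SSet.truncation n ⋙ SSet.Truncated.sk n).obj U with hY
  haveI : Y.HasDimensionLT (n + 1) := hasDimensionLT n _
  set ε : Y ⟶ U := (SSet.skAdj n).counit.app U
  have hnd : ∀ {d : ℕ} (y : Y.nonDegenerate d), ε.app (op ⦋d⦌) y.1 ∈ U.nonDegenerate d := by
    intro d y hdeg
    have hdn : d ≤ n := Nat.le_of_lt_succ (Y.dim_lt_of_nonDegenerate y (n + 1))
    rw [SSet.mem_degenerate_iff] at hdeg
    obtain ⟨m, hm, f, hf, z, hz⟩ := hdeg
    obtain ⟨w, rfl⟩ := (bijective_counit U n m (by omega)).2 z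
    refine y.2 ?_
    rw [SSet.mem_degenerate_iff]
    refine ⟨m, hm, f, hf, w, (bijective_counit U n d hdn).1 ?_⟩
    rw [← hz]
    exact ConcreteCategory.congr_hom (ε.naturality f.op) w
  haveI : ∀ k, Mono (ε.app k) := fun ⟨⟨k⟩⟩ => by
    rw [mono_iff_injective]
    intro a b hab
    obtain ⟨m₁, f₁, hf₁, y₁, rfl⟩ := Y.exists_nonDegenerate a
    obtain ⟨m₂, f₂, hf₂, y₂, rfl⟩ := Y.exists_nonDegenerate b
    have e₁ := ConcreteCategory.congr_hom (ε.naturality f₁.op) y₁.1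
    have e₂ := ConcreteCategory.congr_hom (ε.naturality f₂.op) y₂.1
    have h₂ : ε.app _ (Y.map f₁.op y₁.1) = U.map f₂.op (ε.app _ y₂.1) := hab.trans e₂
    obtain rfl := U.unique_nonDegenerate_dim _ f₁ ⟨_, hnd y₁⟩ e₁ f₂ ⟨_, hnd y₂⟩ h₂
    have hy := congrArg Subtype.val (U.unique_nonDegenerate_simplex _ f₁ ⟨_, hnd y₁⟩ e₁ f₂ ⟨_, hnd y₂⟩ h₂)
    obtain rfl := U.unique_nonDegenerate_map _ f₁ ⟨_, hnd y₁⟩ e₁ f₂ ⟨_, hnd y₂⟩ h₂
    rw [(bijective_counit U n _ (Nat.le_of_lt_succ (Y.dim_lt_of_nonDegenerate y₁ (n + 1)))).1 hy]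
  exact NatTrans.mono_of_mono_app ε

end SkelAdj
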